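/-
Maps from spectra of valuation rings into (possibly non separated) schemes: factorisation
through the induced valuation ring of a residue field, and composition of valuation rings.
-/
import Mathlib.AlgebraicGeometry.ResidueField
import Mathlib.AlgebraicGeometry.AffineScheme
import Mathlib.RingTheory.Valuation.ValuationSubring
import Mathlib.RingTheory.LocalRing.ResidueField.Basic

set_option autoImplicit false
set_option backward.isDefEq.respectTransparency false

universe u

open CategoryTheory AlgebraicGeometry IsLocalRing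

namespace ValFactorLib

/-- A morphism from the spectrum of a local ring whose closed point maps into an affine open
is given by a ring map. -/
theorem exists_fac {X : Scheme.{u}} {U : X.Opens} (hU : IsAffineOpen U) {A : Type u} [CommRing A]
    [IsLocalRing A] (f : Spec (.of A) ⟶ X) (h : f (closedPoint A) ∈ U) :
    ∃ a : Γ(X, U) ⟶ CommRingCat.of A, Spec.map a ≫ hU.fromSpec = f := by
  have hr : Set.range f ⊆ Set.range hU.fromSpec := by
    rw [hU.range_fromSpec]
    rintro _ ⟨x, rfl⟩
    exact ((IsLocalRing.specializes_closedPoint x).map f.continuous).mem_open U.2 h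
  exact ⟨Spec.preimage (IsOpenImmersion.lift hU.fromSpec f hr), by
    rw [Spec.map_preimage]; exact IsOpenImmersion.lift_fac _ _ _⟩

theorem map_cancel {X : Scheme.{u}} {U : X.Opens} (hU : IsAffineOpen U) {A : CommRingCat.{u}}
    {a b : Γ(X, U) ⟶ A} (h : Spec.map a ≫ hU.fromSpec = Spec.map b ≫ hU.fromSpec) : a = b :=
  Spec.map_injective ((cancel_mono hU.fromSpec).1 h)

/-- Two morphisms out of a local spectrum agreeing at the closed point and after an injective
ring map are equal. -/
theorem hom_ext_of_injective {X : Scheme.{u}} {A K : Type u} [CommRing A] [IsLocalRing A]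
    [CommRing K] (j : A →+* K) (hj : Function.Injective j) (f g : Spec (.of A) ⟶ X)
    (h0 : f (closedPoint A) = g (closedPoint A))
    (h : Spec.map (CommRingCat.ofHom j) ≫ f = Spec.map (CommRingCat.ofHom j) ≫ g) : f = g := by
  obtain ⟨U, hU, hfU, -⟩ := exists_isAffineOpen_mem_and_subset (x := f (closedPoint A))
    (U := ⊤) trivial
  obtain ⟨a, ha⟩ := exists_fac hU f hfU
  obtain ⟨b, hb⟩ := exists_fac hU g (h0 ▸ hfU)
  have hab : a ≫ CommRingCat.ofHom j = b ≫ CommRingCat.ofHom j := map_cancel hU (by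
    rw [Spec.map_comp, Spec.map_comp, Category.assoc, Category.assoc, ha, hb, h])
  have : a = b := by
    ext x
    exact hj (ConcreteCategory.congr_hom hab x)
  rw [← ha, ← hb, this]

theorem closedPoint_map {A B : Type u} [CommRing A] [IsLocalRing A] [CommRing B] [IsLocalRing B]
    (φ : A →+* B) [IsLocalHom φ] :
    Spec.map (CommRingCat.ofHom φ) (closedPoint B) = closedPoint A :=
  IsLocalRing.comap_closedPoint φ

theorem apply_eq_of_comp_eq {X : Scheme.{u}} {A B : Type u} [CommRing A] [IsLocalRing A]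
    [CommRing B] [IsLocalRing B] (φ : A →+* B) [IsLocalHom φ] (f : Spec (.of A) ⟶ X)
    (g : Spec (.of B) ⟶ X) (h : Spec.map (CommRingCat.ofHom φ) ≫ f = g) :
    f (closedPoint A) = g (closedPoint B) := by
  subst h
  rw [Scheme.Hom.comp_apply, closedPoint_map]

theorem existsUnique_factor {X Y : Scheme.{u}} (f : Y ⟶ X)
    (K : Type u) [Field K] (R : ValuationSubring K)
    (i : Spec (CommRingCat.of K) ⟶ Y) (φ : Spec (CommRingCat.of ↥R) ⟶ X)
    (w : Spec.map (CommRingCat.ofHom R.subtype) ≫ φ = i ≫ f)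
    (y : Y) (g : Y.residueField y ⟶ CommRingCat.of K)
    (hg : Spec.map g ≫ Y.fromSpecResidueField y = i)
    (ρ : ↥(R.comap g.hom) →+* ↥R)
    (hρ : ∀ x : ↥(R.comap g.hom), ((ρ x : ↥R) : K) = g.hom (x : ↑(Y.residueField y))) :
    ∃! φ' : Spec (CommRingCat.of ↥(R.comap g.hom)) ⟶ X,
      Spec.map (CommRingCat.ofHom ρ) ≫ φ' = φ ∧
      Spec.map (CommRingCat.ofHom (R.comap g.hom).subtype) ≫ φ' =
        Y.fromSpecResidueField y ≫ f := by
  obtain ⟨U, hU, hφU, -⟩ := exists_isAffineOpen_mem_and_subset (x := φ (closedPoint R))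
    (U := ⊤) trivial
  obtain ⟨a, ha⟩ := exists_fac hU φ hφU
  have hfy : (Y.fromSpecResidueField y ≫ f) (closedPoint (Y.residueField y)) ∈ U := by
    have h1 : φ (Spec.map (CommRingCat.ofHom R.subtype) (closedPoint K)) ∈ U :=
      ((IsLocalRing.specializes_closedPoint _).map φ.continuous).mem_open U.2 hφU
    rw [← Scheme.Hom.comp_apply, w, ← hg, Category.assoc, Scheme.Hom.comp_apply] at h1
    have : (Spec.map g) (closedPoint K) = closedPoint (Y.residueField y) :=
      Subsingleton.elim _ _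
    rwa [this] at h1
  obtain ⟨b, hb⟩ := exists_fac hU _ hfy
  have hab : b ≫ g = a ≫ CommRingCat.ofHom R.subtype := map_cancel hU (by
    rw [Spec.map_comp, Spec.map_comp, Category.assoc, Category.assoc, ha, w]
    erw [hb]
    rw [← hg, Category.assoc])
  have hmem : ∀ x, b.hom x ∈ R.comap g.hom := fun x => by
    show g.hom (b.hom x) ∈ R
    have := ConcreteCategory.congr_hom hab x
    change g.hom (b.hom x) = ((a.hom x : R) : K) at this
    rw [this]
    exact (a.hom x).2
  let b' : Γ(X, U) ⟶ CommRingCat.of ↥(R.comap g.hom) :=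
    CommRingCat.ofHom (b.hom.codRestrict (R.comap g.hom).toSubring hmem)
  have h1 : Spec.map (CommRingCat.ofHom ρ) ≫ Spec.map b' ≫ hU.fromSpec = φ := by
    have : b' ≫ CommRingCat.ofHom ρ = a := by
      ext x
      exact (hρ _).trans (ConcreteCategory.congr_hom hab x)
    rw [← Category.assoc, ← Spec.map_comp, this, ha]
  have h2 : Spec.map (CommRingCat.ofHom (R.comap g.hom).subtype) ≫ Spec.map b' ≫ hU.fromSpec =
      Y.fromSpecResidueField y ≫ f := by
    have : b' ≫ CommRingCat.ofHom (R.comap g.hom).subtype = b := rfl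
    rw [← Category.assoc, ← Spec.map_comp, this]
    exact hb
  refine ⟨Spec.map b' ≫ hU.fromSpec, ⟨h1, h2⟩, fun φ'' hφ'' => ?_⟩
  have : IsLocalHom ρ := ⟨fun x hx => by
    obtain ⟨u, hu⟩ := hx
    have hinv : g.hom (x : Y.residueField y)⁻¹ = ((↑u⁻¹ : R) : K) := by
      rw [map_inv₀, ← hρ, ← hu]
      refine inv_eq_of_mul_eq_one_right ?_
      rw [← R.subtype_apply, ← R.subtype_apply, ← map_mul, Units.mul_inv, map_one]
    have hx0 : (x : Y.residueField y) ≠ 0 := fun h0 => by
      have h3 : ((u : R) : K) = 0 := by rw [hu, hρ, h0, map_zero]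
      exact u.ne_zero (Subtype.ext h3)
    refine IsUnit.of_mul_eq_one ⟨(x : Y.residueField y)⁻¹,
      ?_⟩ (Subtype.ext (mul_inv_cancel₀ hx0))
    show g.hom _ ∈ R
    rw [hinv]
    exact Subtype.mem _⟩
  refine hom_ext_of_injective (R.comap g.hom).subtype Subtype.val_injective _ _ ?_
    (hφ''.2.trans h2.symm)
  rw [apply_eq_of_comp_eq ρ _ _ hφ''.1, apply_eq_of_comp_eq ρ _ _ h1]

theorem existsUnique_lift {X Y : Scheme.{u}} (f : Y ⟶ X)
    (K : Type u) [Field K] (R R' : ValuationSubring K) (hRR' : R ≤ R')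
    (ι : ↥R →+* ↥R') (hι : ∀ x : ↥R, ((ι x : ↥R') : K) = (x : K))
    (i : Spec (CommRingCat.of K) ⟶ Y) (φ : Spec (CommRingCat.of ↥R) ⟶ X)
    (w : Spec.map (CommRingCat.ofHom R.subtype) ≫ φ = i ≫ f)
    (g : Spec (CommRingCat.of ↥R') ⟶ Y)
    (hg₁ : Spec.map (CommRingCat.ofHom R'.subtype) ≫ g = i)
    (Rt : ValuationSubring (IsLocalRing.ResidueField ↥R')) (σ : ↥R →+* ↥Rt)
    (hσs : Function.Surjective σ)
    (hσ : ∀ x : ↥R, ((σ x : ↥Rt) : IsLocalRing.ResidueField ↥R') =
      IsLocalRing.residue ↥R' (ι x))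
    (ht : Spec (CommRingCat.of ↥Rt) ⟶ Y)
    (hht₁ : Spec.map (CommRingCat.ofHom Rt.subtype) ≫ ht =
      Spec.map (CommRingCat.ofHom (IsLocalRing.residue ↥R')) ≫ g)
    (hht₂ : ht ≫ f = Spec.map (CommRingCat.ofHom σ) ≫ φ) :
    ∃! h : Spec (CommRingCat.of ↥R) ⟶ Y,
      Spec.map (CommRingCat.ofHom R.subtype) ≫ h = i ∧ h ≫ f = φ ∧
      Spec.map (CommRingCat.ofHom ι) ≫ h = g ∧ Spec.map (CommRingCat.ofHom σ) ≫ h = ht := by
  obtain ⟨U, hU, htU, -⟩ := exists_isAffineOpen_mem_and_subset (x := ht (closedPoint Rt))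
    (U := ⊤) trivial
  obtain ⟨at', hat⟩ := exists_fac hU ht htU
  have hgU : g (closedPoint R') ∈ U := by
    have h1 : ht (Spec.map (CommRingCat.ofHom Rt.subtype)
        (closedPoint (IsLocalRing.ResidueField R'))) ∈ U :=
      ((IsLocalRing.specializes_closedPoint _).map ht.continuous).mem_open U.2 htU
    rw [← Scheme.Hom.comp_apply, hht₁] at h1
    rwa [Scheme.Hom.comp_apply, closedPoint_map] at h1
  obtain ⟨a', ha'⟩ := exists_fac hU g hgU
  have hres : at' ≫ CommRingCat.ofHom Rt.subtype = a' ≫ CommRingCat.ofHom (residue R') :=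
    map_cancel hU (by
      rw [Spec.map_comp, Spec.map_comp, Category.assoc, Category.assoc, hat, ha']
      exact hht₁)
  have hres' : ∀ x, residue R' (a'.hom x) = ((at'.hom x : Rt) : ResidueField R') :=
    fun x => (ConcreteCategory.congr_hom hres x).symm
  have hmem : ∀ x, ((a'.hom x : R') : K) ∈ R := fun x => by
    obtain ⟨r, hr⟩ := hσs (at'.hom x)
    have h0 : residue R' (a'.hom x - ι r) = 0 := by
      rw [map_sub, hres', ← hσ, hr, sub_self]
    rw [residue_eq_zero_iff] at h0
    have h1 : ((a'.hom x - ι r : R') : K) ∈ R := by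
      rcases R.mem_or_inv_mem ((a'.hom x - ι r : R') : K) with h | h
      · exact h
      · by_cases h2 : ((a'.hom x - ι r : R') : K) = 0
        · rw [h2]
          exact R.zero_mem
        · exact absurd (IsUnit.of_mul_eq_one ⟨_, hRR' h⟩ (Subtype.ext (mul_inv_cancel₀ h2)))
            ((mem_maximalIdeal _).1 h0)
    have h2 : ((a'.hom x : R') : K) = ((a'.hom x - ι r : R') : K) + (r : K) := by
      push_cast [hι]
      ring
    rw [h2]
    exact R.add_mem _ _ h1 r.2
  let a : Γ(Y, U) ⟶ CommRingCat.of ↥R := CommRingCat.ofHom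
    ((R'.subtype.comp a'.hom).codRestrict R.toSubring hmem)
  have hK : Spec.map (CommRingCat.ofHom R.subtype) ≫ Spec.map a ≫ hU.fromSpec = i := by
    have : a ≫ CommRingCat.ofHom R.subtype = a' ≫ CommRingCat.ofHom R'.subtype := rfl
    rw [← Category.assoc, ← Spec.map_comp, this, Spec.map_comp, Category.assoc, ha', hg₁]
  have hι' : a ≫ CommRingCat.ofHom ι = a' := by
    ext x
    exact hι _
  have hσ' : a ≫ CommRingCat.ofHom σ = at' := by
    ext x
    refine (hσ _).trans ?_
    have := ConcreteCategory.congr_hom hι' x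
    exact (congrArg (residue R') this).trans (hres' x)
  have hσh : Spec.map (CommRingCat.ofHom σ) ≫ Spec.map a ≫ hU.fromSpec = ht := by
    rw [← Category.assoc, ← Spec.map_comp, hσ', hat]
  have : IsLocalHom σ := hσs.isLocalHom σ
  have hf : (Spec.map a ≫ hU.fromSpec) ≫ f = φ := by
    refine hom_ext_of_injective R.subtype Subtype.val_injective _ _ ?_ ?_
    · rw [apply_eq_of_comp_eq σ φ _ hht₂.symm, Scheme.Hom.comp_apply,
        apply_eq_of_comp_eq σ _ _ hσh, ← Scheme.Hom.comp_apply]
    · rw [w, ← Category.assoc, hK]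
  refine ⟨Spec.map a ≫ hU.fromSpec, ⟨hK, hf, ?_, hσh⟩, fun h hh => ?_⟩
  · rw [← Category.assoc, ← Spec.map_comp, hι', ha']
  · refine hom_ext_of_injective R.subtype Subtype.val_injective _ _ ?_ (hh.1.trans hK.symm)
    rw [apply_eq_of_comp_eq σ _ _ hh.2.2.2, apply_eq_of_comp_eq σ _ _ hσh]

end ValFactorLib
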